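import Mathlib.AlgebraicGeometry.Morphisms.FlatMono
import Mathlib.RingTheory.RingHom.Flat

/-!
# Flat epimorphisms of finite type, open over a dense quasi-compact open, are open
-/

universe u

open CategoryTheory AlgebraicGeometry PrimeSpectrum

namespace Groth.Agent.FlatMonoDense

variable {A C : CommRingCat.{u}}

/-- A flat ring map with monomorphic `Spec` induces bijections of local rings. -/
theorem bijective_localRingHom (φ : A ⟶ C) (hflat : φ.hom.Flat) [Mono (Spec.map φ)]
    (q : Ideal C) [q.IsPrime] :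
    Function.Bijective (Localization.localRingHom (q.comap φ.hom) q φ.hom rfl) := by
  set loc := Localization.localRingHom (q.comap φ.hom) q φ.hom rfl with hloc
  have hl : loc.Flat := RingHom.Flat.localRingHom hflat q _ rfl
  have hmonoC : Mono (Spec.map (CommRingCat.ofHom (algebraMap C (Localization.AtPrime q)))) := by
    have : IsPreimmersion (Spec.map (CommRingCat.ofHom (algebraMap C (Localization.AtPrime q)))) :=
      IsPreimmersion.of_isLocalization q.primeCompl
    infer_instance
  have hfl : Flat (Spec.map (CommRingCat.ofHom loc)) :=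
    (HasRingHomProperty.Spec_iff (P := @Flat)).mpr hl
  have hsurj : Surjective (Spec.map (CommRingCat.ofHom loc)) := by
    refine ⟨?_⟩
    have : IsLocalHom loc := Localization.isLocalHom_localRingHom _ _ _ rfl
    let := loc.toAlgebra
    have : Module.Flat (Localization.AtPrime (q.comap φ.hom)) (Localization.AtPrime q) := hl
    have : Module.FaithfullyFlat (Localization.AtPrime (q.comap φ.hom)) (Localization.AtPrime q) :=
      have : IsLocalHom (algebraMap (Localization.AtPrime (q.comap φ.hom)) (Localization.AtPrime q)) :=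
        Localization.isLocalHom_localRingHom _ _ _ rfl
      Module.FaithfullyFlat.of_flat_of_isLocalHom
    exact PrimeSpectrum.comap_surjective_of_faithfullyFlat
  have hm : Mono (Spec.map (CommRingCat.ofHom loc)) := by
    have : Mono (Spec.map (CommRingCat.ofHom (algebraMap C (Localization.AtPrime q))) ≫ Spec.map φ) :=
      inferInstance
    have w : Spec.map (CommRingCat.ofHom loc) ≫
        Spec.map (CommRingCat.ofHom (algebraMap A (Localization.AtPrime (q.comap φ.hom)))) =
        Spec.map (CommRingCat.ofHom (algebraMap C (Localization.AtPrime q))) ≫ Spec.map φ := by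
      rw [← Spec.map_comp, ← Spec.map_comp]
      congr 1
      ext a
      exact Localization.localRingHom_to_map _ _ _ rfl a
    exact mono_of_mono_fac w
  have := Flat.isIso_of_surjective_of_mono (Spec.map (CommRingCat.ofHom loc))
  have := isIso_SpecMap_iff.mp this
  exact this

/-- Every element of the target is locally a fraction from the source. -/
theorem exists_eq (φ : A ⟶ C) (hflat : φ.hom.Flat) [Mono (Spec.map φ)]
    (q : Ideal C) [q.IsPrime] (c : C) :
    ∃ (a g : A) (h : C), g ∉ q.comap φ.hom ∧ h ∉ q ∧ h * (φ.hom g * c) = h * φ.hom a := by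
  obtain ⟨z, hz⟩ := (bijective_localRingHom φ hflat q).surjective (algebraMap C _ c)
  obtain ⟨a, ⟨g, hg⟩, rfl⟩ := IsLocalization.exists_mk'_eq (q.comap φ.hom).primeCompl z
  rw [Localization.localRingHom_mk', IsLocalization.mk'_eq_iff_eq_mul, ← map_mul] at hz
  obtain ⟨⟨h, hh⟩, e⟩ := IsLocalization.exists_of_eq (M := q.primeCompl) hz
  refine ⟨a, g, h, hg, hh, ?_⟩
  have e' : h * φ.hom a = h * (c * φ.hom g) := e
  linear_combination -e'

/-- Near every point, the map is a closed immersion onto a basic open. -/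
theorem exists_surjective (φ : A ⟶ C) (hflat : φ.hom.Flat) [Mono (Spec.map φ)]
    (hft : φ.hom.FiniteType) (q : Ideal C) [q.IsPrime] (s : C) (hs : s ∉ q) :
    ∃ (G : A) (M : C), G ∉ q.comap φ.hom ∧ M ∉ q ∧ φ.hom G ∣ M ∧ s ∣ M ∧
      ∀ y : Localization.Away M, ∃ (a : A) (k : ℕ),
        algebraMap C (Localization.Away M) (φ.hom G) ^ k * y =
          algebraMap C (Localization.Away M) (φ.hom a) := by
  classical
  let := φ.hom.toAlgebra
  obtain ⟨S, hS⟩ := (hft : Algebra.FiniteType A C).out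
  choose a g h hg hh he using exists_eq φ hflat q
  let G₀ : A := ∏ c ∈ S, g c
  let h₀ : C := (∏ c ∈ S, h c) * s
  have hG₀ : G₀ ∉ q.comap φ.hom := fun hm => by
    obtain ⟨c, -, hc⟩ := (Ideal.IsPrime.prod_mem_iff (p := q.comap φ.hom)).mp hm
    exact hg c hc
  have hh₀ : h₀ ∉ q := fun hm => by
    rcases (inferInstance : q.IsPrime).mem_or_mem hm with hm | hm
    · obtain ⟨c, -, hc⟩ := (Ideal.IsPrime.prod_mem_iff (p := q)).mp hm
      exact hh c hc
    · exact hs hm
  -- in any ring where `G₀` and `h₀` become invertible, everything comes from `A` with denominators `G₀`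
  have hgen : ∀ {T : Type u} [CommRing T] (ι : C →+* T), IsUnit (ι (φ.hom G₀)) → IsUnit (ι h₀) →
      ∀ x : C, ∃ (b : A) (k : ℕ), ι (φ.hom G₀) ^ k * ι x = ι (φ.hom b) := by
    intro T _ ι hG hh₀'
    have hx : ∀ x ∈ Algebra.adjoin A (S : Set C),
        ∃ (b : A) (k : ℕ), ι (φ.hom G₀) ^ k * ι x = ι (φ.hom b) := by
      intro x hx
      induction hx using Algebra.adjoin_induction with
      | mem c hc =>
        obtain ⟨r, hr⟩ : g c ∣ G₀ := Finset.dvd_prod_of_mem g hc
        have hu : IsUnit (ι (h c)) := isUnit_of_dvd_unit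
          (map_dvd ι ((Finset.dvd_prod_of_mem h hc).trans (Dvd.intro s rfl))) hh₀'
        have e1 := congrArg ι (he c)
        rw [map_mul, map_mul ι (h c)] at e1
        have e2 : ι (φ.hom (g c) * c) = ι (φ.hom (a c)) := hu.mul_left_cancel e1
        refine ⟨a c * r, 1, ?_⟩
        rw [hr, pow_one, map_mul, map_mul, map_mul, map_mul, ← e2, map_mul]
        ring
      | algebraMap b => exact ⟨b, 0, by rw [pow_zero, one_mul]; rfl⟩
      | add x y _ _ hx hy =>
        obtain ⟨b, k, e⟩ := hx
        obtain ⟨b', k', e'⟩ := hy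
        refine ⟨b * G₀ ^ k' + b' * G₀ ^ k, k + k', ?_⟩
        simp only [map_add, map_mul, map_pow, ← e, ← e']
        ring
      | mul x y _ _ hx hy =>
        obtain ⟨b, k, e⟩ := hx
        obtain ⟨b', k', e'⟩ := hy
        refine ⟨b * b', k + k', ?_⟩
        simp only [map_mul, ← e, ← e']
        ring
    exact fun x => hx x (hS ▸ Algebra.mem_top)
  let M₀ : C := h₀ * φ.hom G₀
  have hM₀ : M₀ ∉ q := fun hm => ((inferInstance : q.IsPrime).mem_or_mem hm).elim hh₀ hG₀
  have hu₀ : IsUnit (algebraMap C (Localization.Away M₀) M₀) :=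
    IsLocalization.Away.algebraMap_isUnit M₀
  obtain ⟨η, k₀, hη⟩ := hgen (algebraMap C (Localization.Away M₀))
    (isUnit_of_dvd_unit (map_dvd _ (Dvd.intro_left h₀ rfl)) hu₀)
    (isUnit_of_dvd_unit (map_dvd _ (Dvd.intro _ rfl)) hu₀) h₀
  rw [← map_pow, ← map_mul] at hη
  obtain ⟨⟨_, n, rfl⟩, hn⟩ := IsLocalization.exists_of_eq (M := Submonoid.powers M₀) hη
  have hn' : M₀ ^ n * (φ.hom G₀ ^ k₀ * h₀) = M₀ ^ n * φ.hom η := hn
  have hη' : η ∉ q.comap φ.hom := by
    intro hm
    have : M₀ ^ n * (φ.hom G₀ ^ k₀ * h₀) ∈ q := hn' ▸ q.mul_mem_left _ hm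
    rcases (inferInstance : q.IsPrime).mem_or_mem this with h1 | h1
    · exact hM₀ ((inferInstance : q.IsPrime).mem_of_pow_mem n h1)
    · rcases (inferInstance : q.IsPrime).mem_or_mem h1 with h1 | h1
      · exact hG₀ ((inferInstance : q.IsPrime).mem_of_pow_mem _ h1)
      · exact hh₀ h1
  refine ⟨G₀ * η, h₀ * φ.hom (G₀ * η), fun hm => ?_, fun hm => ?_, Dvd.intro_left h₀ rfl,
    (Dvd.intro_left _ rfl : s ∣ h₀).trans (Dvd.intro _ rfl), ?_⟩
  · exact ((inferInstance : (q.comap φ.hom).IsPrime).mem_or_mem hm).elim hG₀ hη'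
  · rcases (inferInstance : q.IsPrime).mem_or_mem hm with h1 | h1
    · exact hh₀ h1
    · exact ((inferInstance : (q.comap φ.hom).IsPrime).mem_or_mem h1).elim hG₀ hη'
  set M : C := h₀ * φ.hom (G₀ * η) with hM
  let ι := algebraMap C (Localization.Away M)
  have hMu : IsUnit (ι M) := IsLocalization.Away.algebraMap_isUnit M
  have hM₀u : IsUnit (ι M₀) :=
    isUnit_of_dvd_unit (map_dvd ι ⟨φ.hom η, by simp only [M₀, hM, map_mul]; ring⟩) hMu
  have hH : ι (φ.hom G₀) ^ k₀ * ι h₀ = ι (φ.hom η) := by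
    have := congrArg ι hn'
    simp only [map_mul, map_pow] at this
    exact (hM₀u.pow n).mul_left_cancel this
  intro y
  obtain ⟨x, ⟨_, m, rfl⟩, rfl⟩ := IsLocalization.exists_mk'_eq (Submonoid.powers M) y
  obtain ⟨b, k, hb⟩ := hgen ι
    (isUnit_of_dvd_unit (map_dvd ι ⟨h₀ * φ.hom η, by simp only [hM, map_mul]; ring⟩) hMu)
    (isUnit_of_dvd_unit (map_dvd ι (Dvd.intro _ rfl)) hMu) x
  refine ⟨b * η ^ k * G₀ ^ (k₀ * m + m), k + (m + m), ?_⟩
  have hMm : IsUnit (ι (M ^ m)) := by rw [map_pow]; exact hMu.pow m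
  refine hMm.mul_left_cancel ?_
  have hsp : ι (M ^ m) * IsLocalization.mk' (Localization.Away M) x
      (⟨M ^ m, m, rfl⟩ : Submonoid.powers M) = ι x :=
    IsLocalization.mk'_spec' (Localization.Away M) x _
  show ι (M ^ m) * (ι (φ.hom (G₀ * η)) ^ (k + (m + m)) * _) = ι (M ^ m) * ι _
  rw [mul_left_comm, hsp]
  have hMeq : ι (M ^ m) = ι h₀ ^ m * ι (φ.hom G₀) ^ m * ι (φ.hom η) ^ m := by
    simp only [hM, map_mul, map_pow]; ring
  have key : ι h₀ ^ m * ι (φ.hom G₀) ^ (k₀ * m) = ι (φ.hom η) ^ m := by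
    rw [← hH]; ring
  rw [hMeq]
  simp only [map_mul, map_pow, ← hb]
  calc (ι (φ.hom G₀) * ι (φ.hom η)) ^ (k + (m + m)) * ι x
      = ι (φ.hom η) ^ m * (ι (φ.hom G₀) ^ (k + (m + m)) * ι (φ.hom η) ^ (k + m) * ι x) := by ring
    _ = ι h₀ ^ m * ι (φ.hom G₀) ^ (k₀ * m) *
          (ι (φ.hom G₀) ^ (k + (m + m)) * ι (φ.hom η) ^ (k + m) * ι x) := by rw [key]
    _ = _ := by ring

/-- Openness. -/
theorem isOpenMap_comap (φ : A ⟶ C) (hflat : φ.hom.Flat) [Mono (Spec.map φ)]
    (hft : φ.hom.FiniteType) (U : Set (PrimeSpectrum A)) (hUo : IsOpen U) (hUc : IsCompact U)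
    (hUd : Dense U)
    (himg : ∀ O : Set (PrimeSpectrum C), IsOpen O → IsOpen (PrimeSpectrum.comap φ.hom '' O ∩ U)) :
    IsOpenMap (PrimeSpectrum.comap φ.hom) := by
  intro O hO
  rw [isOpen_iff_forall_mem_open]
  rintro _ ⟨q, hq, rfl⟩
  obtain ⟨_, ⟨s, rfl⟩, hqs, hsO⟩ :=
    PrimeSpectrum.isTopologicalBasis_basic_opens.exists_subset_of_mem_open hq hO
  obtain ⟨G, M, hG, hM, hGM, hsM, hsurj⟩ :=
    exists_surjective φ hflat hft q.asIdeal s hqs
  let κ : A →+* Localization.Away M := (algebraMap C _).comp φ.hom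
  let E : Set (PrimeSpectrum A) := PrimeSpectrum.comap φ.hom '' (PrimeSpectrum.basicOpen M : Set _)
  let D : Set (PrimeSpectrum A) := PrimeSpectrum.basicOpen G
  let Z : Set (PrimeSpectrum A) := PrimeSpectrum.zeroLocus (RingHom.ker κ : Set A)
  have hED : E = D ∩ Z := by
    ext P
    constructor
    · rintro ⟨Q, hQ, rfl⟩
      refine ⟨fun hGQ => hQ ?_, fun b hb => ?_⟩
      · exact Ideal.mem_of_dvd _ hGM hGQ
      · obtain ⟨⟨_, n, rfl⟩, hn⟩ := (IsLocalization.map_eq_zero_iff (Submonoid.powers M)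
          (Localization.Away M) _).mp (RingHom.mem_ker.mp hb)
        have : M ^ n * φ.hom b ∈ Q.asIdeal := by rw [show M ^ n * φ.hom b = 0 from hn]; exact zero_mem _
        exact (Q.isPrime.mem_or_mem this).resolve_left fun h => hQ (Q.isPrime.mem_of_pow_mem n h)
    · rintro ⟨hPG, hPZ⟩
      have hu : IsUnit (κ G) :=
        isUnit_of_dvd_unit (map_dvd (algebraMap C (Localization.Away M)) hGM)
          (IsLocalization.Away.algebraMap_isUnit M)
      let ψ : Localization.Away G →+* Localization.Away M := IsLocalization.Away.lift G hu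
      have hψ : Function.Surjective ψ := by
        intro y
        obtain ⟨b, k, e⟩ := hsurj y
        refine ⟨IsLocalization.mk' (Localization.Away G) b (⟨G ^ k, k, rfl⟩ : Submonoid.powers G), ?_⟩
        refine (hu.pow k).mul_left_cancel ?_
        have sp : algebraMap A (Localization.Away G) (G ^ k) *
            IsLocalization.mk' (Localization.Away G) b (⟨G ^ k, k, rfl⟩ : Submonoid.powers G) =
              algebraMap A (Localization.Away G) b :=
          IsLocalization.mk'_spec' (Localization.Away G) b _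
        have sp' := congrArg ψ sp
        rw [map_mul] at sp'
        simp only [ψ, IsLocalization.Away.lift_eq, map_pow] at sp'
        exact sp'.trans e.symm
      obtain ⟨P', hP'⟩ : P ∈ Set.range (PrimeSpectrum.comap (algebraMap A (Localization.Away G))) := by
        rw [PrimeSpectrum.localization_away_comap_range (Localization.Away G) G]
        exact hPG
      have : P' ∈ Set.range (PrimeSpectrum.comap ψ) := by
        rw [range_comap_of_surjective _ ψ hψ]
        intro y hy
        obtain ⟨b, ⟨_, k, rfl⟩, rfl⟩ := IsLocalization.exists_mk'_eq (Submonoid.powers G) y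
        have hbk : κ b = 0 := by
          have sp : algebraMap A (Localization.Away G) (G ^ k) *
              IsLocalization.mk' (Localization.Away G) b (⟨G ^ k, k, rfl⟩ : Submonoid.powers G) =
                algebraMap A (Localization.Away G) b :=
            IsLocalization.mk'_spec' (Localization.Away G) b _
          have sp' := congrArg ψ sp
          rw [map_mul] at sp'
          erw [RingHom.mem_ker.mp hy, mul_zero] at sp'
          simp only [ψ, IsLocalization.Away.lift_eq] at sp'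
          exact sp'.symm
        have hbP : b ∈ P.asIdeal := hPZ hbk
        rw [← hP'] at hbP
        have : algebraMap A (Localization.Away G) b ∈ P'.asIdeal := hbP
        exact (IsLocalization.mk'_mem_iff).mpr this
      obtain ⟨Q', hQ'⟩ := this
      refine ⟨PrimeSpectrum.comap (algebraMap C (Localization.Away M)) Q', ?_, ?_⟩
      · have := (PrimeSpectrum.localization_away_comap_range (Localization.Away M) M).le
        exact this ⟨Q', rfl⟩
      · rw [← hP', ← hQ']
        ext b
        show algebraMap C _ (φ.hom b) ∈ Q'.asIdeal ↔ ψ (algebraMap A _ b) ∈ Q'.asIdeal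
        rw [IsLocalization.Away.lift_eq]
        rfl
  have hgen : ∀ ⦃P P' : PrimeSpectrum A⦄, P' ⤳ P → P ∈ E → P' ∈ E := by
    rintro P P' hs ⟨Q, hQ, rfl⟩
    obtain ⟨Q', hQQ', rfl⟩ := (RingHom.Flat.generalizingMap_comap hflat) hs
    exact ⟨Q', hQQ'.mem_open (PrimeSpectrum.basicOpen M).isOpen hQ, rfl⟩
  let T : Set (PrimeSpectrum A) := (U ∩ D) \ Z
  have hTc : IsCompact T := by
    have h1 : IsCompact (U ∩ D) :=
      hUc.inter_of_isOpen (PrimeSpectrum.isCompact_basicOpen G) hUo (PrimeSpectrum.basicOpen G).isOpen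
    have h2 : T = (U ∩ D) ∩ (E ∩ U)ᶜ := by
      ext P
      simp only [T, hED, Set.mem_inter_iff, Set.mem_compl_iff, Set.mem_diff]
      tauto
    rw [h2]
    exact h1.inter_right ((himg _ (PrimeSpectrum.basicOpen M).isOpen).isClosed_compl)
  have hTo : IsOpen T :=
    ((hUo.inter (PrimeSpectrum.basicOpen G).isOpen).sdiff (PrimeSpectrum.isClosed_zeroLocus _))
  have hqE : PrimeSpectrum.comap φ.hom q ∈ E := ⟨q, hM, rfl⟩
  have hqT : PrimeSpectrum.comap φ.hom q ∉ closure T := by
    intro hcl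
    obtain ⟨t, htT, hts⟩ := specializes_of_mem_closure hTo hTc hcl
    exact htT.2 (hED ▸ hgen hts hqE).2
  refine ⟨D \ closure T, ?_, (PrimeSpectrum.basicOpen G).isOpen.sdiff isClosed_closure,
    ⟨(hED ▸ hqE).1, hqT⟩⟩
  rintro P ⟨hPD, hPT⟩
  have hPE : P ∈ E := by
    rw [hED]
    refine ⟨hPD, ?_⟩
    by_contra hPZ
    obtain ⟨y, ⟨⟨hyD, hyT⟩, hyZ⟩, hyU⟩ := hUd.inter_open_nonempty ((D \ closure T) \ Z)
      (((PrimeSpectrum.basicOpen G).isOpen.sdiff isClosed_closure).sdiff
        (PrimeSpectrum.isClosed_zeroLocus _)) ⟨P, ⟨hPD, hPT⟩, hPZ⟩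
    exact hyT (subset_closure ⟨⟨hyU, hyD⟩, hyZ⟩)
  obtain ⟨Q, hQ, rfl⟩ := hPE
  exact ⟨Q, hsO fun h => hQ (Ideal.mem_of_dvd _ hsM h), rfl⟩
where
  specializes_of_mem_closure {T : Set (PrimeSpectrum A)} {p : PrimeSpectrum A} (hTo : IsOpen T)
      (hTc : IsCompact T) (hp : p ∈ closure T) : ∃ t ∈ T, t ⤳ p := by
    obtain ⟨S, hS, rfl⟩ :=
      (isCompact_open_iff_eq_finite_iUnion_of_isTopologicalBasis
        (fun a : A => (PrimeSpectrum.basicOpen a : Set _)) PrimeSpectrum.isTopologicalBasis_basic_opens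
        PrimeSpectrum.isCompact_basicOpen T).mp ⟨hTc, hTo⟩
    rw [hS.closure_biUnion] at hp
    obtain ⟨a, ha, hpa⟩ := Set.mem_iUnion₂.mp hp
    rw [← PrimeSpectrum.localization_away_comap_range (Localization.Away a) a,
      PrimeSpectrum.closure_range_comap] at hpa
    obtain ⟨P, hP, hPp⟩ := Ideal.exists_minimalPrimes_le (J := p.asIdeal) hpa
    obtain ⟨Q, hQ, -, rfl⟩ := Ideal.exists_comap_eq_of_mem_minimalPrimes
      (algebraMap A (Localization.Away a)) (I := ⊥) P hP
    refine ⟨PrimeSpectrum.comap (algebraMap A (Localization.Away a)) ⟨Q, hQ⟩,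
      Set.mem_iUnion₂.mpr ⟨a, ha, ?_⟩, (PrimeSpectrum.le_iff_specializes _ p).mp hPp⟩
    rw [← PrimeSpectrum.localization_away_comap_range (Localization.Away a) a]
    exact ⟨_, rfl⟩

end Groth.Agent.FlatMonoDense
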